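/-
Inside a `p`-group `X` with an element `x` with centralizer of order `p ^ 2`: subgroups `D` through `x`.

* `Setting.not_four_le`: if an element `x'` of `D` is an automorphic image of `x` in `D` but has a bigger
  centralizer in `X`, and `D` is not self-normalizing, then `|D| ≤ p ^ 3`
* `mem_of_small`: in that case `x'` lies in every normal subgroup of order at least `p ^ 2`
-/
import Cfsg.Agent.Lib.MaxClass.TwoStep

set_option autoImplicit false
set_option linter.unusedSectionVars false

open Subgroup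
open scoped commutatorElement

universe u

namespace Cfsg.Agent.MaxClassSylow

open PearlRank MaxClassPower

variable {X : Type u} [Group X] [Finite X] {p n : ℕ} [hp : Fact p.Prime] {x : X}

/-- A good element is outside every two-step centralizer. -/
theorem not_mem_twoStep (c : Gd X p n x) {i : ℕ} (hi : 1 ≤ i) (hin : i + 1 ≤ n - 2) :
    x ∉ twoStep X i := by
  intro h
  have hlt : ¬ L X i ≤ L X (i + 1) := fun hle => by
    have := Subgroup.card_le_of_le hle
    rw [c.card_L hi, c.card_L (by omega : 1 ≤ i + 1)] at this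
    have := (Nat.pow_le_pow_iff_right hp.out.one_lt).1 this
    omega
  obtain ⟨u, hu, hu'⟩ := SetLike.not_le_iff_exists.mp hlt
  refine c.D_sharp hi hin hu hu' ?_
  have h1 : ⁅x, u⁆ ∈ L X (i + 2) := mem_twoStep.mp h u hu
  have hn : (L X (i + 2)).Normal := inferInstance
  have h2 := hn.conj_mem _ h1 u⁻¹
  show u⁻¹ * (x * u * x⁻¹) ∈ L X (i + 2)
  have : u⁻¹ * (x * u * x⁻¹) = u⁻¹ * ⁅x, u⁆ * u⁻¹⁻¹ := by rw [commutatorElement_def]; group
  rwa [this]

/-- The intersection with the derived subgroup has index `p` in a proper subgroup through `x`. -/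
theorem index_inter (c : Gd X p n x) {D : Subgroup X} (hxD : x ∈ D) (hD : D ≠ ⊤) :
    ((L X 1).subgroupOf D).index = p := by
  have hn := c.three_le
  have hQ : Nat.card (X ⧸ L X 1) = p ^ 2 := by
    rw [← index_eq_card]
    have h := (L X 1).card_mul_index
    rw [c.card_L le_rfl, c.card, show p ^ n = p ^ (n - 1 - 1) * p ^ 2 by rw [← pow_add]; congr 1; omega] at h
    exact Nat.eq_of_mul_eq_mul_left (pow_pos hp.out.pos _) h
  let f : D →* X ⧸ L X 1 := (QuotientGroup.mk' (L X 1)).comp D.subtype
  have hk : f.ker = (L X 1).subgroupOf D := by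
    ext u
    rw [MonoidHom.mem_ker, mem_subgroupOf]
    exact QuotientGroup.eq_one_iff _
  rw [← hk, Subgroup.index_ker]
  obtain ⟨j, hj2, hj⟩ := (Nat.dvd_prime_pow hp.out).mp (hQ ▸ Subgroup.card_subgroup_dvd_card f.range)
  rw [hj]
  interval_cases j
  · exfalso
    apply c.not_mem_L_one
    have h1 : f ⟨x, hxD⟩ ∈ f.range := ⟨_, rfl⟩
    rw [eq_bot_of_card_eq f.range (by simpa using hj), mem_bot] at h1
    exact (QuotientGroup.eq_one_iff x).mp h1
  · exact pow_one p
  · exfalso
    apply hD
    refine PGroup.eq_top_of_sup_frattini ?_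
    have htop : f.range = ⊤ := Subgroup.eq_top_of_card_eq _ (by rw [hj, hQ])
    have h4 : D ⊔ L X 1 = ⊤ := by
      have := congrArg (Subgroup.comap (QuotientGroup.mk' (L X 1))) htop
      rwa [MonoidHom.range_comp, range_subtype, comap_map_eq, QuotientGroup.ker_mk', comap_top] at this
    refine top_le_iff.mp (h4.ge.trans (sup_le_sup_left ?_ _))
    rw [L, Subgroup.top_lowerCentralSeries_one]
    exact PGroup.commutator_le_frattini c.pGroup

/-- An element of a proper subgroup through `x` outside the derived subgroup is as good as `x`. -/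
theorem good_of_not_mem (c : Gd X p n x) {D : Subgroup X} (hxD : x ∈ D) (hD : D ≠ ⊤) {y : X}
    (hyD : y ∈ D) (hy : y ∉ L X 1) : Nat.card (centralizer ({y} : Set X)) = p ^ 2 := by
  have hidx := index_inter c hxD hD
  set D0 := (L X 1).subgroupOf D with hD0
  have hx0 : (⟨x, hxD⟩ : D) ∉ D0 := c.not_mem_L_one
  haveI : Fact p.Prime := hp
  have hcard : Nat.card (D ⧸ D0) = p := by rw [← index_eq_card, hidx]
  have htop : zpowers ((⟨x, hxD⟩ : D) : D ⧸ D0) = ⊤ :=
    zpowers_eq_top_of_prime_card hcard fun h => hx0 ((QuotientGroup.eq_one_iff _).mp h)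
  obtain ⟨a, ha⟩ := mem_powers_iff_mem_zpowers.mpr (htop ▸ mem_top ((⟨y, hyD⟩ : D) : D ⧸ D0))
  simp only at ha
  rw [← QuotientGroup.mk_pow, QuotientGroup.eq] at ha
  have hmem : (x ^ a)⁻¹ * y ∈ L X 1 := ha
  -- `a` is prime to `p`
  have hpa : ¬ p ∣ a := by
    rintro ⟨b, rfl⟩
    apply hy
    have hxp : x ^ p ∈ L X 1 := by
      have h := D0.pow_index_mem ⟨x, hxD⟩
      rw [hidx] at h
      exact h
    have := mul_mem (pow_mem hxp b) hmem
    rwa [← pow_mul, mul_inv_cancel_left] at this
  have hC : centralizer ({x ^ a} : Set X) = centralizer ({x} : Set X) := by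
    obtain ⟨k, hk⟩ := IsPGroup.iff_orderOf.mp c.pGroup x
    obtain ⟨e, he⟩ := exists_pow_eq_self_of_coprime (x := x) (n := a)
      (hk ▸ (hp.out.coprime_iff_not_dvd.mpr hpa).symm.pow_right k)
    ext g
    rw [mem_centralizer_singleton_iff, mem_centralizer_singleton_iff]
    constructor
    · intro h
      have h2 : Commute g (x ^ a) := h
      have := h2.pow_right e
      rw [he] at this
      exact this
    · exact fun h => (show Commute g x from h).pow_right a
  have c' : Gd X p n (x ^ a) := ⟨c.card, c.three_le, by rw [hC]; exact c.cent⟩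
  have hn' : (L X 1).Normal := inferInstance
  have hy' : x ^ a * ((x ^ a)⁻¹ * y) * (x ^ a)⁻¹ ∈ L X 1 := hn'.conj_mem _ hmem _
  obtain ⟨g, hg⟩ := c'.exists_conj hy'
  have hgy : g * x ^ a * g⁻¹ = y := by rw [hg]; group
  rw [← hgy, ← c'.cent]
  refine Nat.card_congr
    { toFun := fun u => ⟨g⁻¹ * u * g, ?_⟩
      invFun := fun u => ⟨g * u * g⁻¹, ?_⟩
      left_inv := fun u => Subtype.ext (by group)
      right_inv := fun u => Subtype.ext (by group) }
  · have hu := mem_centralizer_singleton_iff.mp u.2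
    rw [mem_centralizer_singleton_iff]
    calc g⁻¹ * u * g * x ^ a = g⁻¹ * (u * (g * x ^ a * g⁻¹)) * g := by group
      _ = g⁻¹ * ((g * x ^ a * g⁻¹) * u) * g := by rw [hu]
      _ = x ^ a * (g⁻¹ * u * g) := by group
  · have hu := mem_centralizer_singleton_iff.mp u.2
    rw [mem_centralizer_singleton_iff]
    calc g * u * g⁻¹ * (g * x ^ a * g⁻¹) = g * (u * x ^ a) * g⁻¹ := by group
      _ = g * (x ^ a * u) * g⁻¹ := by rw [hu]
      _ = g * x ^ a * g⁻¹ * (g * u * g⁻¹) := by group

/-- The centralizer of `x` in a subgroup containing it. -/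
theorem card_centralizer_in (c : Gd X p n x) {D : Subgroup X} (hxD : x ∈ D)
    (hC : centralizer ({x} : Set X) ≤ D) :
    Nat.card (centralizer ({(⟨x, hxD⟩ : D)} : Set D)) = p ^ 2 := by
  rw [← c.cent]
  refine Nat.card_congr
    { toFun := fun u => ⟨(u : D), ?_⟩
      invFun := fun u => ⟨⟨u, hC u.2⟩, ?_⟩
      left_inv := fun _ => rfl
      right_inv := fun _ => rfl }
  · rw [mem_centralizer_singleton_iff]
    exact congrArg Subtype.val (mem_centralizer_singleton_iff.mp u.2)
  · rw [mem_centralizer_singleton_iff]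
    exact Subtype.ext (mem_centralizer_singleton_iff.mp u.2)

theorem map_L_equiv {Y : Type u} [Group Y] (φ : MulAut Y) (i : ℕ) {u : Y} (hu : u ∈ L Y i) : φ u ∈ L Y i := by
  have h := mem_map_of_mem φ.toMonoidHom hu
  rw [L, Subgroup.map_lowerCentralSeries, map_top_of_surjective _ φ.surjective] at h
  exact h

/-- A large `D` admits no automorphism taking `x` to a worse element. -/
theorem le_cube (c : Gd X p n x) {D : Subgroup X} (hxD : x ∈ D)
    (hC : centralizer ({x} : Set X) ≤ D) {w : X} (hw : w ∈ normalizer (D : Set X)) (hwD : w ∉ D)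
    (φ : MulAut D) (hbad : Nat.card (centralizer ({((φ ⟨x, hxD⟩ : D) : X)} : Set X)) ≠ p ^ 2) :
    Nat.card D ≤ p ^ 3 := by
  by_contra hbig
  have hD : D ≠ ⊤ := fun h => hwD (h ▸ mem_top w)
  have hDp : IsPGroup p D := c.pGroup.to_subgroup D
  obtain ⟨d, hd⟩ := IsPGroup.iff_card.mp hDp
  have hd4 : 4 ≤ d := by
    rw [hd] at hbig
    by_contra h
    exact hbig (Nat.pow_le_pow_right hp.out.pos (by omega))
  have cD : Gd D p d ⟨x, hxD⟩ := ⟨hd, by omega, card_centralizer_in c hxD hC⟩
  have mD : Mc D p d := ⟨hd, by omega, cD.nilpotencyClass⟩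
  set M := twoStep D 1 with hM
  have hxM : (⟨x, hxD⟩ : D) ∉ M := not_mem_twoStep cD le_rfl (by omega)
  have hMi : M.index = p := by
    refine le_antisymm (mD.twoStep_index_le le_rfl (by omega)) ?_
    obtain ⟨k, hk⟩ := IsPGroup.index hDp M
    rw [hk]
    refine Nat.le_self_pow (fun h0 => ?_) p
    rw [h0, pow_zero, Subgroup.index_eq_one] at hk
    exact hxM (hk ▸ mem_top _)
  have hMinv : ∀ (ψ : MulAut D) (u : D), u ∈ M → ψ u ∈ M := by
    intro ψ u hu
    rw [hM, mem_twoStep] at hu ⊢
    intro v hv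
    have h1 := map_L_equiv ψ (1 + 2) (hu (ψ⁻¹ v) (map_L_equiv ψ⁻¹ 1 hv))
    rwa [map_commutatorElement, MulAut.apply_inv_self] at h1
  set D0 := (L X 1).subgroupOf D with hD0
  have hD0i : D0.index = p := index_inter c hxD hD
  -- `φ x` is outside `M` and inside `D0`
  have hy1 : φ ⟨x, hxD⟩ ∉ M := fun h => hxM (by
    have := hMinv φ⁻¹ _ h
    rwa [MulAut.inv_apply_self] at this)
  have hy2 : φ ⟨x, hxD⟩ ∈ D0 := by
    by_contra h
    exact hbad (good_of_not_mem c hxD hD (φ ⟨x, hxD⟩).2 h)
  have hMD0 : M ≠ D0 := fun h => hy1 (h ▸ hy2)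
  -- `w` acts on `D`
  let W : MulAut D := D.normalizerMonoidHom ⟨w, hw⟩
  have hWcoe : ∀ u : D, ((W u : D) : X) = w * u * w⁻¹ := fun u => rfl
  have hcomm : ∀ N : Subgroup D, N.index = p → (∀ u, u ∈ N → W u ∈ N) →
      W ⟨x, hxD⟩ * (⟨x, hxD⟩ : D)⁻¹ ∈ N := by
    intro N hN hWN
    haveI hNn : N.Normal := Subgroup.normal_of_index_eq_minFac_card (by
      rw [hN, hd, Nat.pow_minFac (by omega), hp.out.minFac_eq])
    have hW' : N ≤ N.comap W.toMonoidHom := fun u hu => hWN u hu
    -- `W` induces a `p`-element of the automorphism group of a group of order `p`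
    let wq : D ⧸ N →* D ⧸ N := QuotientGroup.map N N W.toMonoidHom hW'
    have hiter : ∀ k : ℕ, ∀ u : D, wq^[k] (u : D ⧸ N) = ((W ^ k) u : D) := by
      intro k
      induction k with
      | zero => exact fun u => rfl
      | succ k ih => intro u; rw [Function.iterate_succ_apply', ih, pow_succ']; rfl
    have hcard : Nat.card (D ⧸ N) = p := by rw [← index_eq_card, hN]
    haveI : IsCyclic (D ⧸ N) := isCyclic_of_prime_card (p := p) hcard
    obtain ⟨k, hk⟩ := MonoidHom.map_cyclic wq
    obtain ⟨e, he⟩ := IsPGroup.iff_orderOf.mp c.pGroup w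
    have hWe : W ^ p ^ e = 1 := by
      have h1 : (⟨w, hw⟩ : normalizer (D : Set X)) ^ p ^ e = 1 := Subtype.ext (by
        rw [Subgroup.coe_pow, ← he]; exact pow_orderOf_eq_one w)
      show D.normalizerMonoidHom ⟨w, hw⟩ ^ p ^ e = 1
      rw [← map_pow, h1, map_one]
    have hq : ∀ q : D ⧸ N, q ^ (k ^ p ^ e) = q := by
      intro q
      have h1 : ∀ m : ℕ, wq^[m] q = q ^ (k ^ m) := by
        intro m
        induction m with
        | zero => simp
        | succ m ih => rw [Function.iterate_succ_apply', ih, map_zpow, hk, ← zpow_mul, pow_succ']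
      induction q using QuotientGroup.induction_on with
      | H u => rw [← h1, hiter, hWe]; rfl
    set ξ := ((⟨x, hxD⟩ : D) : D ⧸ N)
    have hfix : wq ξ = ξ := by
      rw [hk]
      obtain ⟨g, hg⟩ := IsCyclic.exists_ofOrder_eq_natCard (α := D ⧸ N)
      have h2 := hq g
      nth_rewrite 2 [← zpow_one g] at h2
      rw [zpow_eq_zpow_iff_modEq, hg, hcard, ← ZMod.intCast_eq_intCast_iff, Int.cast_pow,
        ZMod.pow_card_pow] at h2
      obtain ⟨j, hj⟩ : ξ ∈ zpowers g := by
        have : zpowers g = ⊤ := Subgroup.eq_top_of_card_eq _ (by rw [Nat.card_zpowers, hg])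
        rw [this]; exact mem_top _
      simp only at hj
      rw [← hj, ← zpow_mul, zpow_eq_zpow_iff_modEq, hg, hcard, ← ZMod.intCast_eq_intCast_iff, Int.cast_mul,
        h2, Int.cast_one, mul_one]
    have hfix' : ((W ⟨x, hxD⟩ : D) : D ⧸ N) = ξ := hfix
    rw [← QuotientGroup.eq_one_iff, QuotientGroup.mk_mul, QuotientGroup.mk_inv, hfix', mul_inv_cancel]
  have hWM := hcomm M hMi (fun u hu => hMinv W u hu)
  have hWD0 := hcomm D0 hD0i (fun u hu => by
    rw [hD0, mem_subgroupOf, hWcoe]
    exact (inferInstance : (L X 1).Normal).conj_mem _ hu w)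
  -- the intersection is the derived subgroup of `D`
  have hinter : M ⊓ D0 = L D 1 := by
    have hle : L D 1 ≤ M ⊓ D0 := by
      refine le_inf (L_one_le_twoStep 1) ?_
      rw [hD0]
      intro u hu
      rw [mem_subgroupOf]
      have h1 := mem_map_of_mem D.subtype hu
      rw [L, Subgroup.map_lowerCentralSeries] at h1
      exact Subgroup.lowerCentralSeries_mono 1 le_top h1
    refine (Subgroup.eq_of_le_of_card_ge hle ?_).symm
    have h1 := cD.card_L (le_refl 1)
    have hlt : M ⊓ D0 < M := lt_of_le_of_ne inf_le_left fun h => hMD0 (Subgroup.eq_of_le_of_card_ge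
      (inf_eq_left.mp h) (by
        have e1 := M.card_mul_index
        have e2 := D0.card_mul_index
        rw [hMi] at e1; rw [hD0i] at e2
        exact (Nat.eq_of_mul_eq_mul_right hp.out.pos (e2.trans e1.symm)).le))
    have h2 := PGroup.mul_card_le_of_lt hDp hlt
    have e1 := M.card_mul_index
    rw [hMi, hd, show p ^ d = p ^ (d - 1 - 1) * p * p by rw [← pow_succ, ← pow_succ]; congr 1; omega] at e1
    rw [Nat.eq_of_mul_eq_mul_right hp.out.pos e1, mul_comm _ p] at h2
    rw [h1]
    exact Nat.le_of_mul_le_mul_left h2 hp.out.pos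
  have hin : W ⟨x, hxD⟩ * (⟨x, hxD⟩ : D)⁻¹ ∈ L D 1 := hinter ▸ ⟨hWM, hWD0⟩
  obtain ⟨g, hg⟩ := cD.exists_conj hin
  have hg' : (g : X) * x * (g : X)⁻¹ = w * x * w⁻¹ := by
    have := congrArg Subtype.val hg
    simp only [Subgroup.coe_mul, Subgroup.coe_inv, hWcoe, inv_mul_cancel_right] at this
    exact this
  apply hwD
  have hmem : (g : X)⁻¹ * w ∈ centralizer ({x} : Set X) := by
    rw [mem_centralizer_singleton_iff]
    calc (g : X)⁻¹ * w * x = (g : X)⁻¹ * (w * x * w⁻¹) * w := by group
      _ = x * ((g : X)⁻¹ * w) := by rw [← hg']; group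
  have := mul_mem g.2 (hC hmem)
  rwa [mul_inv_cancel_left] at this

/-- In a small `D` the worse element lies in every normal subgroup of order at least `p ^ 2`. -/
theorem mem_of_small (c : Gd X p n x) {D : Subgroup X} (hxD : x ∈ D)
    (hC : centralizer ({x} : Set X) ≤ D) (hD : D ≠ ⊤) (hcard : Nat.card D ≤ p ^ 3) {y : X} (hy : y ∈ D)
    (hbad : Nat.card (centralizer ({y} : Set X)) ≠ p ^ 2) {K : Subgroup X} [hK : K.Normal]
    (hKc : p ^ 2 ≤ Nat.card K) : y ∈ K := by
  have hn := c.three_le
  have hy1 : y ∈ L X 1 := by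
    by_contra h
    exact hbad (good_of_not_mem c hxD hD hy h)
  -- `K` contains `L (max 1 (n - 3))`
  have hLK : L X (max 1 (n - 3)) ≤ K := by
    obtain ⟨r, hr⟩ := IsPGroup.index c.pGroup K
    have hr' : r + 2 ≤ n := by
      have h := K.card_mul_index
      rw [hr, c.card] at h
      have : p ^ (r + 2) ≤ p ^ n := by
        rw [← h, pow_add, mul_comm]; exact Nat.mul_le_mul_right _ hKc
      exact (Nat.pow_le_pow_iff_right hp.out.one_lt).mp this
    rcases Nat.lt_or_ge r 2 with h | h
    · rcases Nat.eq_zero_or_pos r with h0 | h0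
      · rw [h0, pow_zero, Subgroup.index_eq_one] at hr
        rw [hr]; exact le_top
      · have hr1 : K.index = p := by rw [hr, show r = 1 by omega, pow_one]
        refine le_trans (Subgroup.lowerCentralSeries_antitone _ (le_max_left 1 (n - 3))) ?_
        rw [Subgroup.top_lowerCentralSeries_one]
        exact PGroup.commutator_le_of_index_eq hr1
    · rw [PGroup.normal_eq_lcs hn c.card c.nilpotencyClass h hr]
      exact Subgroup.lowerCentralSeries_antitone _ (by omega)
  refine hLK ?_
  by_contra hy3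
  -- climb down the series
  have hex : ∃ i, 1 ≤ i ∧ i < n - 3 ∧ y ∈ L X i ∧ y ∉ L X (i + 1) := by
    by_contra hno
    push Not at hno
    have : ∀ i, 1 ≤ i → i ≤ max 1 (n - 3) → y ∈ L X i := by
      intro i hi
      induction i, hi using Nat.le_induction with
      | base => exact fun _ => hy1
      | succ i hi ih => exact fun h => hno i hi (by omega) (ih (by omega))
    exact hy3 (this _ (le_max_left _ _) le_rfl)
  obtain ⟨i, hi, hin, hyi, hyi'⟩ := hex
  refine c.D_sharp hi (by omega) hyi hyi' ?_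
  -- `D x y` is a commutator of elements of `D`, so it is central in `D`
  refine Subgroup.lowerCentralSeries_antitone _ (show i + 2 ≤ n - 2 by omega) ?_
  have hle : L X (n - 2) = center X := by
    refine Subgroup.eq_of_le_of_card_ge ?_ ?_
    · intro u hu
      rw [mem_center_iff]
      intro g
      refine (commutatorElement_eq_one_iff_mul_comm.mp ?_).symm
      have h1 : ⁅u, g⁆ ∈ L X (n - 2 + 1) := commutator_mem_commutator hu (mem_top g)
      rwa [c.L_bot (by omega), mem_bot] at h1
    · rw [c.card_L (by omega), show n - 1 - (n - 2) = 1 by omega, pow_one]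
      have hlt : center X < centralizer ({x} : Set X) := lt_of_le_of_ne (center_le_centralizer _)
        fun h => c.not_mem_center (h ▸ mem_centralizer_singleton_iff.mpr rfl)
      have := PGroup.mul_card_le_of_lt c.pGroup hlt
      rw [c.cent, sq] at this
      exact Nat.le_of_mul_le_mul_left this hp.out.pos
  change PearlRank.Pc.D x y ∈ L X (n - 2)
  rw [hle]
  -- `D` has class at most two
  have hDp : IsPGroup p D := c.pGroup.to_subgroup D
  obtain ⟨d, hd⟩ := IsPGroup.iff_card.mp hDp
  have hd3 : d ≤ 3 := (Nat.pow_le_pow_iff_right hp.out.one_lt).mp (hd ▸ hcard)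
  set e : D := (⟨y, hy⟩ : D)⁻¹ * (⟨x, hxD⟩ * ⟨y, hy⟩ * (⟨x, hxD⟩ : D)⁻¹) with he
  have hez : (e : X) ∈ center X := by
    have hd2 : 2 ≤ d := by
      have h := Subgroup.card_le_of_le hC
      rw [hd, c.cent] at h
      exact (Nat.pow_le_pow_iff_right hp.out.one_lt).mp h
    rcases (show d = 2 ∨ d = 3 by omega) with rfl | rfl
    · have : e = 1 := by
        haveI := IsPGroup.isMulCommutative_of_card_eq_prime_sq hd
        rw [he, mul_comm' (⟨x, hxD⟩ : D) ⟨y, hy⟩]
        group
      rw [this]; exact one_mem _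
    · have cD : Gd D p 3 ⟨x, hxD⟩ := ⟨hd, le_rfl, card_centralizer_in c hxD hC⟩
      -- the derived subgroup of `D` has order `p` and contains the centre of `X`
      have hZD : center X ≤ D := (center_le_centralizer _).trans hC
      have hZZ : (center X).subgroupOf D ≤ center D := fun u hu => mem_center_iff.mpr fun v =>
        Subtype.ext (mem_center_iff.mp hu v)
      have hcardZ : Nat.card (center X) = p := by
        rw [← hle, c.card_L (by omega), show n - 1 - (n - 2) = 1 by omega, pow_one]
      have hD1 : L D 1 ≤ center D := by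
        intro u hu
        rw [mem_center_iff]
        intro g
        refine (commutatorElement_eq_one_iff_mul_comm.mp ?_).symm
        have h1 : ⁅u, g⁆ ∈ L D (1 + 1) := commutator_mem_commutator hu (mem_top g)
        rwa [cD.L_bot (by omega), mem_bot] at h1
      have hcardZD : Nat.card (center D) ≤ p := by
        have hlt : center D < centralizer ({(⟨x, hxD⟩ : D)} : Set D) := lt_of_le_of_ne (center_le_centralizer _)
          fun h => cD.not_mem_center (h ▸ mem_centralizer_singleton_iff.mpr rfl)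
        have := PGroup.mul_card_le_of_lt hDp hlt
        rw [cD.cent, sq] at this
        exact Nat.le_of_mul_le_mul_left this hp.out.pos
      have heq : (center X).subgroupOf D = center D := Subgroup.eq_of_le_of_card_ge hZZ (by
        rw [Nat.card_congr (subgroupOfEquivOfLe hZD).toEquiv, hcardZ]; exact hcardZD)
      have he1 : e ∈ L D 1 := by
        have hn' : (L D 1).Normal := inferInstance
        have h1 : ⁅(⟨x, hxD⟩ : D), (⟨y, hy⟩ : D)⁆ ∈ L D 1 := commutator_mem_commutator (mem_top _) (mem_top _)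
        have h2 := hn'.conj_mem _ h1 (⟨y, hy⟩ : D)⁻¹
        have h3 : e = (⟨y, hy⟩ : D)⁻¹ * ⁅(⟨x, hxD⟩ : D), (⟨y, hy⟩ : D)⁆ * (⟨y, hy⟩ : D)⁻¹⁻¹ := by
          rw [he, commutatorElement_def]; group
        rwa [h3]
      have := hD1 he1
      rw [← heq] at this
      exact this
  exact hez

end Cfsg.Agent.MaxClassSylow
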