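/-
Sylow subgroups of maximal class without an element whose centralizer has `p`-part `p ^ 2`.

* `mem_of_normal`: normal subgroups of order divisible by `p ^ 2` contain the good elements
* `eq_top_of_sq_dvd`: hence they are everything
* `central_of_sylow_prime`: normal subgroups with Sylow subgroup of order `p` are central
-/
import Cfsg.Agent.Lib.MaxClassSylow.Local
import Cfsg.Agent.Lib.Cores.Basic

set_option autoImplicit false
set_option linter.unusedSectionVars false

open Subgroup
open scoped commutatorElement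

universe u

namespace Cfsg.Agent.MaxClassSylow

open PearlRank MaxClassPower
open scoped Pointwise

variable {G : Type u} [Group G] [Finite G] {p n : ℕ} [hp : Fact p.Prime]

/-- `x` has centralizer of order `p ^ 2` in the Sylow subgroup `S` containing it. -/
def Good (p : ℕ) (S : Subgroup G) (x : G) : Prop :=
  x ∈ S ∧ Nat.card ↥(S ⊓ centralizer ({x} : Set G)) = p ^ 2

theorem card_centralizer_subtype (S : Subgroup G) {x : G} (hx : x ∈ S) :
    Nat.card (centralizer ({(⟨x, hx⟩ : S)} : Set S)) = Nat.card ↥(S ⊓ centralizer ({x} : Set G)) :=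
  Nat.card_congr
    { toFun := fun u => ⟨(u : S), (u : S).2, mem_centralizer_singleton_iff.mpr
        (congrArg Subtype.val (mem_centralizer_singleton_iff.mp u.2))⟩
      invFun := fun u => ⟨⟨u, u.2.1⟩, mem_centralizer_singleton_iff.mpr
        (Subtype.ext (mem_centralizer_singleton_iff.mp u.2.2))⟩
      left_inv := fun _ => rfl
      right_inv := fun _ => rfl }

theorem card_inter_conj (S : Subgroup G) (g x : G) :
    Nat.card ↥((MulAut.conj g • S) ⊓ centralizer ({g * x * g⁻¹} : Set G)) =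
      Nat.card ↥(S ⊓ centralizer ({x} : Set G)) := by
  refine Nat.card_congr
    { toFun := fun u => ⟨g⁻¹ * u * g, ?_, ?_⟩
      invFun := fun u => ⟨g * u * g⁻¹, ?_, ?_⟩
      left_inv := fun u => Subtype.ext (by group)
      right_inv := fun u => Subtype.ext (by group) }
  · obtain ⟨v, hv, hvu⟩ := u.2.1
    have : g⁻¹ * (u : G) * g = v := by
      rw [← hvu]; show g⁻¹ * (g * v * g⁻¹) * g = v; group
    rw [this]; exact hv
  · have hu := mem_centralizer_singleton_iff.mp u.2.2
    refine mem_centralizer_singleton_iff.mpr ?_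
    calc g⁻¹ * u * g * x = g⁻¹ * (u * (g * x * g⁻¹)) * g := by group
      _ = g⁻¹ * ((g * x * g⁻¹) * u) * g := by rw [hu]
      _ = x * (g⁻¹ * u * g) := by group
  · exact ⟨u, u.2.1, rfl⟩
  · have hu := mem_centralizer_singleton_iff.mp u.2.2
    refine mem_centralizer_singleton_iff.mpr ?_
    calc g * u * g⁻¹ * (g * x * g⁻¹) = g * (u * x) * g⁻¹ := by group
      _ = g * (x * u) * g⁻¹ := by rw [hu]
      _ = g * x * g⁻¹ * (g * u * g⁻¹) := by group

theorem card_inf_sylow (N : Subgroup G) [N.Normal] (P : Sylow p G) :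
    Nat.card ((P : Subgroup G).subgroupOf N) = p ^ (Nat.card N).factorization p := by
  have hpp : IsPGroup p ((P : Subgroup G).subgroupOf N) :=
    P.isPGroup'.comap_of_injective N.subtype N.subtype_injective
  have hd : ¬ p ∣ ((P : Subgroup G).subgroupOf N).index := by
    intro h
    apply P.not_dvd_index
    refine h.trans ?_
    show (P : Subgroup G).relIndex N ∣ _
    have h1 : (P : Subgroup G).relIndex N = (P : Subgroup G).relIndex ((P : Subgroup G) ⊔ N) := by
      have h2 := Subgroup.card_mul_index ((P : Subgroup G).subgroupOf ((P : Subgroup G) ⊔ N))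
      have h3 := Subgroup.card_mul_index ((P : Subgroup G).subgroupOf N)
      have h4 := Subgroup.card_mul_index (N.subgroupOf ((P : Subgroup G) ⊔ N))
      have h5 : N.relIndex ((P : Subgroup G) ⊔ N) = N.relIndex (P : Subgroup G) := by
        rw [sup_comm]; exact Subgroup.relIndex_sup_left _ _
      have h6 := Subgroup.card_mul_index (N.subgroupOf (P : Subgroup G))
      have e1 : Nat.card ((P : Subgroup G).subgroupOf ((P : Subgroup G) ⊔ N)) = Nat.card (P : Subgroup G) :=
        Nat.card_congr (subgroupOfEquivOfLe le_sup_left).toEquiv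
      have e2 : Nat.card (N.subgroupOf ((P : Subgroup G) ⊔ N)) = Nat.card N :=
        Nat.card_congr (subgroupOfEquivOfLe le_sup_right).toEquiv
      have e3 : Nat.card ((P : Subgroup G).subgroupOf N) = Nat.card (N.subgroupOf (P : Subgroup G)) :=
        Nat.card_congr
          { toFun := fun u => ⟨⟨u.1.1, u.2⟩, u.1.2⟩
            invFun := fun u => ⟨⟨u.1.1, u.2⟩, u.1.2⟩
            left_inv := fun _ => rfl
            right_inv := fun _ => rfl }
      rw [e1] at h2
      rw [e2] at h4
      rw [e3] at h3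
      simp only [Subgroup.relIndex] at h5 ⊢
      rw [h5] at h4
      refine Nat.eq_of_mul_eq_mul_left (Nat.mul_pos (Nat.card_pos (α := N.subgroupOf (P : Subgroup G)))
        (Nat.card_pos (α := (P : Subgroup G)))) ?_
      calc Nat.card (N.subgroupOf (P : Subgroup G)) * Nat.card (P : Subgroup G) *
            ((P : Subgroup G).subgroupOf N).index
          = (Nat.card (N.subgroupOf (P : Subgroup G)) * ((P : Subgroup G).subgroupOf N).index) *
              Nat.card (P : Subgroup G) := by ring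
        _ = (Nat.card N * (N.subgroupOf (P : Subgroup G)).index) * Nat.card (N.subgroupOf (P : Subgroup G)) := by
            rw [h3, ← h6]; ring
        _ = _ := by rw [h4, ← h2]; ring
    rw [h1, ← Subgroup.relIndex_mul_index (le_sup_left : (P : Subgroup G) ≤ (P : Subgroup G) ⊔ N)]
    exact dvd_mul_right _ _
  rw [← (hpp.toSylow hd).card_eq_multiplicity]
  rfl

/-- Normal subgroups of order divisible by `p ^ 2` contain all good elements. -/
theorem mem_of_normal (hn : 3 ≤ n) (hcard : ∀ S : Sylow p G, Nat.card (S : Subgroup G) = p ^ n)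
    (hno : ∀ g : G, (∃ k : ℕ, orderOf g = p ^ k) →
      (Nat.card (centralizer ({g} : Set G))).factorization p ≠ 2)
    (S : Sylow p G) {x : G} (hx : Good p (S : Subgroup G) x) {N : Subgroup G} [hN : N.Normal]
    (hdvd : p ^ 2 ∣ Nat.card N) : x ∈ N := by
  classical
  -- a Sylow subgroup in which `x` is not good
  have hxp : ∃ k : ℕ, orderOf x = p ^ k := by
    obtain ⟨k, hk⟩ := IsPGroup.iff_orderOf.mp S.isPGroup' ⟨x, hx.1⟩
    exact ⟨k, by rw [← hk, Subgroup.orderOf_mk]⟩
  obtain ⟨T₀, hxT₀, hT₀⟩ : ∃ T : Sylow p G, x ∈ (T : Subgroup G) ∧ ¬ Good p (T : Subgroup G) x := by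
    set C := centralizer ({x} : Set G) with hC
    obtain ⟨R, hR⟩ := (S.isPGroup'.comap_of_injective C.subtype C.subtype_injective).exists_le_sylow
    obtain ⟨T, hT⟩ := (R.isPGroup'.map C.subtype).exists_le_sylow
    have hxR : (⟨x, mem_centralizer_singleton_iff.mpr rfl⟩ : C) ∈ (R : Subgroup C) := hR hx.1
    refine ⟨T, hT ⟨_, hxR, rfl⟩, fun hg => hno x hxp ?_⟩
    have h1 := Subgroup.card_le_of_le (le_inf hT (map_subtype_le _) : (R : Subgroup C).map C.subtype ≤
      (T : Subgroup G) ⊓ C)
    rw [Subgroup.card_map_of_injective C.subtype_injective, R.card_eq_multiplicity, hg.2] at h1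
    have h2 := Subgroup.card_le_of_le (hR : (S : Subgroup G).subgroupOf C ≤ R)
    rw [R.card_eq_multiplicity] at h2
    have h3 : Nat.card ((S : Subgroup G).subgroupOf C) = Nat.card ↥((S : Subgroup G) ⊓ C) :=
      Nat.card_congr
        { toFun := fun u => ⟨u.1.1, u.2, u.1.2⟩
          invFun := fun u => ⟨⟨u.1, u.2.2⟩, u.2.1⟩
          left_inv := fun _ => rfl
          right_inv := fun _ => rfl }
    change Nat.card ↥((S : Subgroup G).subgroupOf C) ≤ _ at h2
    rw [h3, hx.2] at h2
    exact le_antisymm ((Nat.pow_le_pow_iff_right hp.out.one_lt).mp h1)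
      ((Nat.pow_le_pow_iff_right hp.out.one_lt).mp h2)
  -- a pair of maximal intersection
  let Pair := {q : Sylow p G × Sylow p G //
    Good p (q.1 : Subgroup G) x ∧ x ∈ (q.2 : Subgroup G) ∧ ¬ Good p (q.2 : Subgroup G) x}
  haveI : Nonempty Pair := ⟨⟨(S, T₀), hx, hxT₀, hT₀⟩⟩
  obtain ⟨⟨⟨U, V⟩, hU, hxV, hV⟩, hmax⟩ :=
    Finite.exists_max (fun q : Pair => Nat.card ↥((q.1.1 : Subgroup G) ⊓ q.1.2))
  have hmax' : ∀ (U' V' : Sylow p G), Good p (U' : Subgroup G) x → x ∈ (V' : Subgroup G) →
      ¬ Good p (V' : Subgroup G) x → ∀ E : Subgroup G, E ≤ (U' : Subgroup G) → E ≤ (V' : Subgroup G) →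
      ¬ (U : Subgroup G) ⊓ V < E := by
    intro U' V' h1 h2 h3 E hE1 hE2 hlt
    have h4 := hmax ⟨(U', V'), h1, h2, h3⟩
    have h5 := Subgroup.card_le_of_le (le_inf hE1 hE2)
    have h6 : Nat.card ↥((U : Subgroup G) ⊓ V) < Nat.card E :=
      lt_of_le_of_ne (Subgroup.card_le_of_le hlt.le) fun h => hlt.ne (Subgroup.eq_of_le_of_card_ge hlt.le h.ge)
    simp only at h4
    omega
  set D : Subgroup G := (U : Subgroup G) ⊓ V with hD
  set NG : Subgroup G := normalizer (D : Set G) with hNG
  have hxD : x ∈ D := ⟨hU.1, hxV⟩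
  -- `D` grows in both normalizers
  have hgrow : ∀ (A B : Sylow p G), Good p (A : Subgroup G) x → x ∈ (B : Subgroup G) →
      ¬ Good p (B : Subgroup G) x → (D = (A : Subgroup G) ⊓ B ∨ D = (B : Subgroup G) ⊓ A) →
      D < (A : Subgroup G) ⊓ NG ∧ D < (B : Subgroup G) ⊓ NG := by
    intro A B hA hxB hB hDe
    have hkey : ∀ (A B : Sylow p G), A ≠ B → (D = (A : Subgroup G) ⊓ B) → D < (A : Subgroup G) ⊓ NG := by
      intro A B hne hDe
      have hDA : D ≤ (A : Subgroup G) := hDe ▸ inf_le_left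
      refine lt_of_le_of_ne (le_inf hDA le_normalizer) fun heq => ?_
      have hDne : D.subgroupOf (A : Subgroup G) ≠ ⊤ := by
        intro h
        rw [subgroupOf_eq_top] at h
        apply hne
        refine Sylow.ext (Subgroup.eq_of_le_of_card_ge ((hDe ▸ h).trans inf_le_right) ?_)
        rw [hcard A, hcard B]
      obtain ⟨g, hg, hgD⟩ := PGroup.exists_mem_normalizer_not_mem A.isPGroup' hDne
      apply hgD
      rw [mem_subgroupOf, heq]
      refine ⟨g.2, mem_normalizer_iff.mpr fun v => ?_⟩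
      constructor
      · intro hv
        have := (mem_normalizer_iff.mp hg ⟨v, hDA hv⟩).mp hv
        exact this
      · intro hv
        have h2 : (g : G)⁻¹ * ((g : G) * v * (g : G)⁻¹) * (g : G) ∈ (A : Subgroup G) :=
          mul_mem (mul_mem (inv_mem g.2) (hDA hv)) g.2
        rw [show (g : G)⁻¹ * ((g : G) * v * (g : G)⁻¹) * (g : G) = v by group] at h2
        exact (mem_normalizer_iff.mp hg ⟨v, h2⟩).mpr hv
    have hne : A ≠ B := fun h => hB (h ▸ hA)
    rcases hDe with h | h
    · exact ⟨hkey A B hne h, hkey B A hne.symm (h.trans (inf_comm _ _))⟩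
    · exact ⟨hkey A B hne (h.trans (inf_comm _ _)), hkey B A hne.symm h⟩
  obtain ⟨hUlt, hVlt⟩ := hgrow U V hU hxV hV (Or.inl hD)
  obtain ⟨A₀, hA₀⟩ := (U.isPGroup'.comap_of_injective NG.subtype NG.subtype_injective).exists_le_sylow
  obtain ⟨B₀, hB₀⟩ := (V.isPGroup'.comap_of_injective NG.subtype NG.subtype_injective).exists_le_sylow
  obtain ⟨S', hS'⟩ := (A₀.isPGroup'.map NG.subtype).exists_le_sylow
  obtain ⟨T', hT'⟩ := (B₀.isPGroup'.map NG.subtype).exists_le_sylow
  obtain ⟨m, hm⟩ := MulAction.exists_smul_eq NG A₀ B₀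
  have hAS : (U : Subgroup G) ⊓ NG ≤ S' := fun u hu => hS' ⟨⟨u, hu.2⟩, hA₀ hu.1, rfl⟩
  have hBT : (V : Subgroup G) ⊓ NG ≤ T' := fun u hu => hT' ⟨⟨u, hu.2⟩, hB₀ hu.1, rfl⟩
  have hBS : (V : Subgroup G) ⊓ NG ≤ ((m : G) • S' : Sylow p G) := by
    intro u hu
    have h1 : (⟨u, hu.2⟩ : NG) ∈ ((m • A₀ : Sylow p NG) : Subgroup NG) := hm ▸ hB₀ hu.1
    rw [Sylow.coe_subgroup_smul] at h1
    obtain ⟨v, hv, hvu⟩ := h1
    rw [Sylow.coe_subgroup_smul]
    refine ⟨(v : G), hS' ⟨v, hv, rfl⟩, ?_⟩
    exact congrArg Subtype.val hvu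
  have hgS' : Good p (S' : Subgroup G) x := by
    by_contra h
    exact hmax' U S' hU (hAS ⟨hU.1, le_normalizer hxD⟩) h _ inf_le_left hAS hUlt
  have hgT' : ¬ Good p (T' : Subgroup G) x := fun h =>
    hmax' T' V h hxV hV _ hBT inf_le_left hVlt
  have hxmS : x ∈ (((m : G) • S' : Sylow p G) : Subgroup G) := hBS ⟨hxV, le_normalizer hxD⟩
  have hgmS : ¬ Good p (((m : G) • S' : Sylow p G) : Subgroup G) x := fun h =>
    hmax' _ T' h (hBT ⟨hxV, le_normalizer hxD⟩) hgT' _ hBS hBT hVlt
  -- the worse element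
  set y := (m : G)⁻¹ * x * (m : G) with hy
  have hxy : (m : G) * y * (m : G)⁻¹ = x := by rw [hy]; group
  have hyD : y ∈ D := (mem_normalizer_iff.mp m.2 y).mpr (hxy.symm ▸ hxD)
  have hbad : Nat.card ↥((S' : Subgroup G) ⊓ centralizer ({y} : Set G)) ≠ p ^ 2 := by
    intro h
    refine hgmS ⟨hxmS, ?_⟩
    rw [← h, ← card_inter_conj (S' : Subgroup G) (m : G) y, hxy, ← Sylow.coe_subgroup_smul]
  have hDS : D ≤ (S' : Subgroup G) := fun u hu => hAS ⟨hu.1, le_normalizer hu⟩
  -- pass to `S'`
  set X := ↥(S' : Subgroup G)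
  let x' : X := ⟨x, hgS'.1⟩
  let y' : X := ⟨y, hDS hyD⟩
  have c : Gd X p n x' := ⟨hcard S', hn, by rw [card_centralizer_subtype]; exact hgS'.2⟩
  set D' : Subgroup X := D.subgroupOf S' with hD'
  have hbad' : Nat.card (centralizer ({y'} : Set X)) ≠ p ^ 2 := by rw [card_centralizer_subtype]; exact hbad
  obtain ⟨w, hwU, hwD⟩ := SetLike.exists_of_lt hUlt
  let w' : X := ⟨w, hAS hwU⟩
  have hwn : w' ∈ normalizer (D' : Set X) := mem_normalizer_iff.mpr fun v =>
    mem_normalizer_iff.mp hwU.2 (v : G)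
  have hwD' : w' ∉ D' := hwD
  have hD'top : D' ≠ ⊤ := fun h => hwD' (h ▸ mem_top w')
  have hxD' : x' ∈ D' := hxD
  have hyD' : y' ∈ D' := hyD
  -- the centralizer of `x` lies in `D`
  have hC : centralizer ({x'} : Set X) ≤ D' := by
    by_contra hle
    have hlt : centralizer ({x'} : Set X) ⊓ D' < centralizer ({x'} : Set X) :=
      lt_of_le_of_ne inf_le_left fun h => hle (inf_eq_left.mp h)
    set E := centralizer ({x'} : Set X) ⊓ D' with hE
    have hEp : Nat.card E ≤ p := by
      have := PGroup.mul_card_le_of_lt c.pGroup hlt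
      rw [c.cent, sq] at this
      exact Nat.le_of_mul_le_mul_left this hp.out.pos
    have hx1 : x' ≠ 1 := fun h => c.not_mem_center (h ▸ one_mem _)
    have hEx : E = zpowers x' := by
      refine (Subgroup.eq_of_le_of_card_ge (zpowers_le.mpr (Subgroup.mem_inf.mpr ⟨mem_centralizer_singleton_iff.mpr rfl, hxD'⟩)) ?_).symm
      rw [Nat.card_zpowers]
      obtain ⟨k, hk⟩ := IsPGroup.iff_orderOf.mp c.pGroup x'
      rw [hk]
      refine hEp.trans (Nat.le_self_pow (fun h0 => hx1 ?_) p)
      rw [h0, pow_zero] at hk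
      exact orderOf_eq_one_iff.mp hk
    have hD'x : D' = zpowers x' := by
      haveI : Nontrivial D' := ⟨⟨x', hxD'⟩, 1, fun h => hx1 (congrArg Subtype.val h)⟩
      haveI := IsPGroup.center_nontrivial (c.pGroup.to_subgroup D')
      obtain ⟨z, hz⟩ := exists_ne (1 : center D')
      have hzE : ((z : D') : X) ∈ E := ⟨mem_centralizer_singleton_iff.mpr
        (congrArg Subtype.val (mem_center_iff.mp z.2 ⟨x', hxD'⟩)).symm, (z : D').2⟩
      have hgen : zpowers ((z : D') : X) = E := by
        refine Subgroup.eq_of_le_of_card_ge (zpowers_le.mpr hzE) ?_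
        rw [Nat.card_zpowers]
        obtain ⟨k, hk⟩ := IsPGroup.iff_orderOf.mp c.pGroup ((z : D') : X)
        rw [hk]
        refine hEp.trans (Nat.le_self_pow (fun h0 => hz ?_) p)
        rw [h0, pow_zero] at hk
        exact Subtype.ext (Subtype.ext (orderOf_eq_one_iff.mp hk))
      rw [← hEx]
      refine (inf_eq_right.mpr fun v hv => ?_).symm
      rw [mem_centralizer_singleton_iff]
      have hxz : x' ∈ zpowers ((z : D') : X) := hgen ▸ ⟨mem_centralizer_singleton_iff.mpr rfl, hxD'⟩
      obtain ⟨k, hk⟩ := Subgroup.mem_zpowers_iff.mp hxz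
      rw [← hk]
      have h1 : Commute v ((z : D') : X) := congrArg Subtype.val (mem_center_iff.mp z.2 ⟨v, hv⟩)
      exact (h1.zpow_right k).eq
    apply hbad'
    have hy'x : zpowers y' = zpowers x' := by
      rw [← hD'x]
      refine Subgroup.eq_of_le_of_card_ge (zpowers_le.mpr hyD') ?_
      rw [hD'x, Nat.card_zpowers, Nat.card_zpowers, ← Subgroup.orderOf_coe x', ← Subgroup.orderOf_coe y']
      show orderOf x ≤ orderOf y
      rw [← hxy, ← MulAut.conj_apply, MulEquiv.orderOf_eq]
    have : centralizer ({y'} : Set X) = centralizer ({x'} : Set X) := by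
      rw [← centralizer_closure, ← zpowers_eq_closure, hy'x, zpowers_eq_closure, centralizer_closure]
    rw [this]; exact c.cent
  -- the automorphism
  have hconjD : ∀ g ∈ D, (m : G)⁻¹ * g * (m : G) ∈ D := fun g hg => (mem_normalizer_iff.mp m.2 _).mpr (by
    rw [show (m : G) * ((m : G)⁻¹ * g * (m : G)) * (m : G)⁻¹ = g by group]; exact hg)
  let φ : MulAut D' :=
    { toFun := fun v => ⟨⟨(m : G)⁻¹ * (v : X) * m, hDS (hconjD _ v.2)⟩, hconjD _ v.2⟩
      invFun := fun v => ⟨⟨(m : G) * (v : X) * (m : G)⁻¹, hDS ((mem_normalizer_iff.mp m.2 _).mp v.2)⟩,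
        (mem_normalizer_iff.mp m.2 _).mp v.2⟩
      left_inv := fun v => Subtype.ext (Subtype.ext (by show (m : G) * ((m : G)⁻¹ * (v : X) * m) * (m : G)⁻¹ = _; group))
      right_inv := fun v => Subtype.ext (Subtype.ext (by show (m : G)⁻¹ * ((m : G) * (v : X) * (m : G)⁻¹) * m = _; group))
      map_mul' := fun a b => Subtype.ext (Subtype.ext (by
        show (m : G)⁻¹ * (((a : X) : G) * (b : X)) * m =
          (m : G)⁻¹ * (a : X) * m * ((m : G)⁻¹ * (b : X) * m)
        group)) }
  have hsmall : Nat.card D' ≤ p ^ 3 := le_cube c hxD' hC hwn hwD' φ hbad'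
  have hKc : p ^ 2 ≤ Nat.card (N.subgroupOf (S' : Subgroup G)) := by
    have h1 := card_inf_sylow N S'
    have e3 : Nat.card ((S' : Subgroup G).subgroupOf N) = Nat.card (N.subgroupOf (S' : Subgroup G)) :=
      Nat.card_congr
        { toFun := fun u => ⟨⟨u.1.1, u.2⟩, u.1.2⟩
          invFun := fun u => ⟨⟨u.1.1, u.2⟩, u.1.2⟩
          left_inv := fun _ => rfl
          right_inv := fun _ => rfl }
    rw [← e3, h1]
    exact Nat.pow_le_pow_right hp.out.pos ((hp.out.pow_dvd_iff_le_factorization Nat.card_pos.ne').mp hdvd)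
  have hyN : y' ∈ N.subgroupOf (S' : Subgroup G) :=
    mem_of_small c hxD' hC hD'top hsmall hyD' hbad' hKc
  rw [← hxy]
  exact hN.conj_mem y hyN (m : G)

/-- A cover by few proper subgroups over a common one misses something. -/
theorem exists_avoid {X : Type*} [Group X] [Finite X] (L : Subgroup X) (hL : p * p * Nat.card L ≤ Nat.card X)
    (F : Finset (Subgroup X)) (hF : F.card ≤ p) (hmem : ∀ H ∈ F, L ≤ H ∧ p * Nat.card H ≤ Nat.card X) :
    ∃ g : X, g ∉ L ∧ ∀ H ∈ F, g ∉ H := by
  classical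
  haveI := Fintype.ofFinite X
  by_contra hno
  push Not at hno
  let A : Finset X := Finset.univ.filter (fun g => g ∈ L)
  let B : Subgroup X → Finset X := fun H => (Finset.univ.filter (fun g => g ∈ H)) \ A
  have hcardH : ∀ H : Subgroup X, (Finset.univ.filter (fun g => g ∈ H)).card = Nat.card H := fun H => by
    rw [Nat.card_eq_fintype_card, Fintype.card_subtype]
  have hcov : (Finset.univ : Finset X) ⊆ A ∪ F.biUnion B := by
    intro g _
    by_cases hg : g ∈ L
    · exact Finset.mem_union_left _ (Finset.mem_filter.mpr ⟨Finset.mem_univ _, hg⟩)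
    · obtain ⟨H, hH, hgH⟩ := hno g hg
      exact Finset.mem_union_right _ (Finset.mem_biUnion.mpr ⟨H, hH, Finset.mem_sdiff.mpr
        ⟨Finset.mem_filter.mpr ⟨Finset.mem_univ _, hgH⟩, fun h => hg (Finset.mem_filter.mp h).2⟩⟩)
  have h1 := (Finset.card_le_card hcov).trans ((Finset.card_union_le _ _).trans
    (Nat.add_le_add_left Finset.card_biUnion_le _))
  have h2 : ∀ H ∈ F, p * (B H).card + p * Nat.card L ≤ Nat.card X := by
    intro H hH
    obtain ⟨hLH, hHc⟩ := hmem H hH
    have hsub : A ⊆ Finset.univ.filter (fun g => g ∈ H) := by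
      intro g hg
      simp only [A, Finset.mem_filter, Finset.mem_univ, true_and] at hg ⊢
      exact hLH hg
    have := Finset.card_sdiff_of_subset hsub
    rw [hcardH, hcardH] at this
    simp only [B]
    rw [← mul_add, this, Nat.sub_add_cancel (Subgroup.card_le_of_le hLH)]
    exact hHc
  have h3 : p * ∑ H ∈ F, (B H).card + F.card * (p * Nat.card L) ≤ F.card * Nat.card X := by
    rw [Finset.mul_sum, ← smul_eq_mul (a := F.card), ← smul_eq_mul (a := F.card) (b := Nat.card X),
      ← Finset.sum_const, ← Finset.sum_const, ← Finset.sum_add_distrib]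
    exact Finset.sum_le_sum h2
  rw [Finset.card_univ, ← Nat.card_eq_fintype_card, hcardH L] at h1
  generalize ∑ H ∈ F, (B H).card = s at h1 h3
  generalize hNdef : Nat.card X = M at h1 h3 hL
  generalize hldef : Nat.card L = l at h1 h3 hL
  have hlpos : 0 < l := hldef ▸ Nat.card_pos
  have hp2 := hp.out.two_le
  obtain ⟨d, hd⟩ := Nat.exists_eq_add_of_le hL
  have h4 : F.card * ((p * p * l + d) - p * l) ≤ p * ((p * p * l + d) - p * l) := Nat.mul_le_mul_right _ hF
  obtain ⟨q, rfl⟩ : ∃ q, p = q + 2 := ⟨p - 2, by omega⟩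
  have h6 : (q + 2) * (q + 2) * l + d - (q + 2) * l = (q + 1) * (q + 2) * l + d := by
    have : (q + 2) * (q + 2) * l = (q + 1) * (q + 2) * l + (q + 2) * l := by ring
    omega
  rw [h6] at h4
  subst hd
  have h7 : F.card * ((q + 2) * (q + 2) * l + d) = F.card * ((q + 1) * (q + 2) * l + d) + F.card * ((q + 2) * l) := by
    ring
  have h8 : (q + 2) * ((q + 2) * (q + 2) * l + d) ≤ (q + 2) * (l + s) := Nat.mul_le_mul_left _ h1
  have h9 : (q + 2) * (l + s) = (q + 2) * l + (q + 2) * s := by ring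
  have h10 : (q + 2) * ((q + 2) * (q + 2) * l + d) =
      (q + 2) * ((q + 1) * (q + 2) * l + d) + (q + 2) * ((q + 2) * l) := by ring
  have h11 : 2 * ((q + 2) * l) ≤ (q + 2) * ((q + 2) * l) := Nat.mul_le_mul_right _ (by omega)
  have h12 : 0 < (q + 2) * l := by positivity
  omega

/-- Normal subgroups of order divisible by `p ^ 2` are everything. -/
theorem eq_top_of_sq_dvd (hn : 3 ≤ n) (P : Sylow p G) (mP : Mc ↥(P : Subgroup G) p n)
    (hno : ∀ g : G, (∃ k : ℕ, orderOf g = p ^ k) →
      (Nat.card (centralizer ({g} : Set G))).factorization p ≠ 2)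
    (hres : ∀ N : Subgroup G, N.Normal → (N.index).Coprime p → N = ⊤)
    {N : Subgroup G} [hN : N.Normal] (hdvd : p ^ 2 ∣ Nat.card N) : N = ⊤ := by
  classical
  have hcard : ∀ S : Sylow p G, Nat.card (S : Subgroup G) = p ^ n := fun S => by
    rw [S.card_eq_multiplicity, ← P.card_eq_multiplicity]; exact mP.card
  set K := N.subgroupOf (P : Subgroup G) with hK
  have hKtop : K = ⊤ := by
    by_contra hne
    obtain ⟨M, hM, hKM⟩ := IsCoatomic.eq_top_or_exists_le_coatom K |>.resolve_left hne
    have hP := mP.pGroup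
    haveI := PGroup.isCoatom_normal hP hM
    let F : Finset (Subgroup ↥(P : Subgroup G)) :=
      insert M (((Finset.Icc 1 (p - 1)).filter (fun j => j ≤ n - 3)).image (twoStep ↥(P : Subgroup G)))
    obtain ⟨g, hg1, hg⟩ := exists_avoid (p := p) (L ↥(P : Subgroup G) 1) (by
        rw [mP.card_L le_rfl, mP.card, ← pow_two, ← pow_add]
        exact Nat.pow_le_pow_right hp.out.pos (by omega))
      F (by
        refine (Finset.card_insert_le _ _).trans ?_
        have h1 := Finset.card_image_le (s := (Finset.Icc 1 (p - 1)).filter (fun j => j ≤ n - 3))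
          (f := twoStep ↥(P : Subgroup G))
        have h2 := Finset.card_filter_le (Finset.Icc 1 (p - 1)) (fun j => j ≤ n - 3)
        rw [Nat.card_Icc] at h2
        have := hp.out.two_le
        omega)
      (fun H hH => by
        have key : ∀ H : Subgroup ↥(P : Subgroup G), H ≠ ⊤ → p * Nat.card H ≤ Nat.card ↥(P : Subgroup G) :=
          fun H hH => by
            have := PGroup.mul_card_le_of_lt hP (lt_top_iff_ne_top.mpr hH)
            rwa [Subgroup.card_top] at this
        rcases Finset.mem_insert.mp hH with rfl | h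
        · refine ⟨?_, key H hM.1⟩
          rw [L, Subgroup.top_lowerCentralSeries_one]
          exact PGroup.commutator_le_of_isCoatom hP hM
        · obtain ⟨j, hj, rfl⟩ := Finset.mem_image.mp h
          simp only [Finset.mem_filter, Finset.mem_Icc] at hj
          exact ⟨L_one_le_twoStep j, key _ (mP.twoStep_ne_top hj.1.1 hj.2)⟩)
    have hgood : Nat.card (centralizer ({g} : Set ↥(P : Subgroup G))) = p ^ 2 := by
      refine mP.card_centralizer hg1 fun i hi hin hmem => ?_
      obtain ⟨j, h1, h2, h3, heq⟩ := mP.twoStep_periodic i hi hin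
      refine hg (twoStep _ j) (Finset.mem_insert_of_mem (Finset.mem_image.mpr ⟨j, ?_, rfl⟩)) (heq ▸ hmem)
      simp only [Finset.mem_filter, Finset.mem_Icc]; omega
    have hgN : (g : G) ∈ N := mem_of_normal hn hcard hno P (x := (g : G))
      ⟨g.2, by rw [← card_centralizer_subtype _ g.2]; exact hgood⟩ hdvd
    exact hg M (Finset.mem_insert_self _ _) (hKM hgN)
  refine hres N hN ?_
  rw [hK, subgroupOf_eq_top] at hKtop
  exact Nat.Coprime.symm (hp.out.coprime_iff_not_dvd.mpr fun h =>
    P.not_dvd_index (h.trans (Subgroup.index_dvd_of_le hKtop)))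

/-- A proper normal subgroup with Sylow subgroup of order `p` is central. -/
theorem central_of_sylow_prime (hn : 3 ≤ n) (P : Sylow p G) (mP : Mc ↥(P : Subgroup G) p n)
    (hcore : Cfsg.pPrimeCore p G = ⊥) (hres : ∀ N : Subgroup G, N.Normal → (N.index).Coprime p → N = ⊤)
    {N : Subgroup G} [hN : N.Normal] (hNp : (Nat.card N).factorization p = 1) :
    N ≤ center G ∧ Nat.card N = p := by
  classical
  set Z := (P : Subgroup G).subgroupOf N with hZ
  have hZcard : Nat.card Z = p := by rw [hZ, card_inf_sylow, hNp, pow_one]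
  let ZS : Sylow p N := (P.isPGroup'.comap_of_injective N.subtype N.subtype_injective).toSylow (p := p) (by
    intro h
    have h1 := Z.card_mul_index
    have h2 : p * p ∣ Nat.card N := by
      rw [← h1, hZcard]; exact Nat.mul_dvd_mul_left p h
    rw [← sq] at h2
    have := (hp.out.pow_dvd_iff_le_factorization Nat.card_pos.ne').mp h2
    omega)
  have hZS : (ZS : Subgroup N) = Z := rfl
  set Z0 := Z.map N.subtype with hZ0
  have hZ0card : Nat.card Z0 = p := by rw [hZ0, Subgroup.card_map_of_injective N.subtype_injective, hZcard]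
  have hZ0P : Z0 ≤ (P : Subgroup G) := by rintro _ ⟨u, hu, rfl⟩; exact hu
  have hPcent : ∀ v ∈ (P : Subgroup G), ∀ z ∈ Z0, v * z = z * v := by
    have hP := mP.pGroup
    set K := N.subgroupOf (P : Subgroup G)
    have hKc : Nat.card K = p := by
      refine Eq.trans ?_ hZcard
      exact Nat.card_congr
        { toFun := fun u => ⟨⟨u.1.1, u.2⟩, u.1.2⟩
          invFun := fun u => ⟨⟨u.1.1, u.2⟩, u.1.2⟩
          left_inv := fun _ => rfl
          right_inv := fun _ => rfl }
    intro v hv z hz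
    obtain ⟨u, hu, rfl⟩ := hz
    have hlt : (⊥ : Subgroup ↥(P : Subgroup G)) < K := bot_lt_iff_ne_bot.mpr fun h => by
      rw [h, card_bot] at hKc; exact hp.out.ne_one hKc.symm
    have h1 := PGroup.commutator_mem_of_card hP hlt (by rw [hKc, card_bot, mul_one])
      (x := ⟨(u : G), hu⟩) (u.2 : (u : G) ∈ N) ⟨v, hv⟩
    rw [mem_bot, commutatorElement_eq_one_iff_mul_comm] at h1
    exact congrArg Subtype.val h1
  by_cases hNC : normalizer ((ZS : Subgroup N) : Set N) ≤ centralizer ((ZS : Subgroup N) : Set N)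
  · -- Burnside
    have hcompl := MonoidHom.ker_transferSylow_isComplement' ZS hNC
    set K := (MonoidHom.transferSylow ZS hNC).ker
    have hKi : K.index = p := hcompl.symm.index_eq_card.trans hZcard
    have hKc : (Nat.card K).Coprime p := by
      refine (hp.out.coprime_iff_not_dvd.mpr fun h => ?_).symm
      have h1 := K.card_mul_index
      rw [hKi] at h1
      have h2 : p * p ∣ Nat.card N := h1 ▸ Nat.mul_dvd_mul_right h p
      rw [← sq] at h2
      have := (hp.out.pow_dvd_iff_le_factorization Nat.card_pos.ne').mp h2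
      omega
    have hKle : K ≤ Cfsg.pPrimeCore p N := Cores.le_pPrimeCore inferInstance hKc
    haveI : (Cfsg.pPrimeCore p N).Characteristic := by
      refine characteristic_iff_map_eq.mpr fun φ => ?_
      refine Subgroup.eq_of_le_of_card_ge (Cores.map_pPrimeCore_le φ.toMonoidHom φ.surjective p) ?_
      rw [Subgroup.card_map_of_injective φ.injective]
    have hbot : (Cfsg.pPrimeCore p N).map N.subtype = ⊥ := by
      have h1 : (Cfsg.pPrimeCore p N).map N.subtype ≤ Cfsg.pPrimeCore p G :=
        Cores.le_pPrimeCore inferInstance (by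
          rw [Subgroup.card_map_of_injective N.subtype_injective]; exact Cores.coprime_card_pPrimeCore p)
      rwa [hcore, le_bot_iff] at h1
    have hK0 : K = ⊥ := by
      rw [Subgroup.map_eq_bot_iff_of_injective _ N.subtype_injective] at hbot
      exact le_bot_iff.mp (hKle.trans hbot.le)
    have hNcard : Nat.card N = p := by
      have h1 := K.card_mul_index
      rw [hK0, card_bot, one_mul] at h1
      rw [← h1, ← hK0, hKi]
    refine ⟨?_, hNcard⟩
    have hNZ : Z0 = N := Subgroup.eq_of_le_of_card_ge (map_subtype_le _) (by rw [hNcard, hZ0card])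
    have hCtop : centralizer (N : Set G) = ⊤ := by
      refine hres _ inferInstance (Nat.Coprime.symm (hp.out.coprime_iff_not_dvd.mpr fun h => ?_))
      refine P.not_dvd_index (h.trans (Subgroup.index_dvd_of_le ?_))
      intro v hv
      rw [mem_centralizer_iff]
      intro z hz
      exact (hPcent v hv z (hNZ.symm ▸ hz)).symm
    intro z hz
    rw [mem_center_iff]
    intro g
    exact ((mem_centralizer_iff.mp (hCtop ▸ mem_top g : g ∈ centralizer (N : Set G))) z hz).symm
  exfalso
  -- an element normalizing but not centralizing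
  obtain ⟨t, htn, htc⟩ := SetLike.not_le_iff_exists.mp hNC
  rw [hZS] at htn htc
  set C : Subgroup N := centralizer (Z : Set N) with hC
  have hZC : Z ≤ C := by
    haveI := isCyclic_of_prime_card (p := p) hZcard
    intro a ha
    rw [mem_centralizer_iff]
    intro b hb
    exact congrArg Subtype.val (IsCyclic.commGroup.mul_comm (⟨b, hb⟩ : Z) ⟨a, ha⟩)
  set Zc := Z.subgroupOf C with hZc
  have hZcC : Zc ≤ center C := fun a ha => mem_center_iff.mpr fun b =>
    Subtype.ext ((mem_centralizer_iff.mp b.2 _ ha).symm)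
  have hidxC : ¬ p ∣ (center C).index := fun h => by
    have h0 := h.trans (Subgroup.index_dvd_of_le hZcC)
    have h1 := Zc.card_mul_index
    rw [Nat.card_congr (subgroupOfEquivOfLe hZC).toEquiv, hZcard] at h1
    have h2 : p * p ∣ Nat.card N := ((Nat.mul_dvd_mul_left p h0).trans h1.dvd).trans (card_subgroup_dvd_card C)
    rw [← sq] at h2
    have := (hp.out.pow_dvd_iff_le_factorization Nat.card_pos.ne').mp h2
    omega
  obtain ⟨r, hr⟩ : p ∣ Nat.card C := by
    rw [← hZcard]; exact card_dvd_of_le hZC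
  have hrp : ¬ p ∣ r := fun h => by
    have h2 : p * p ∣ Nat.card N := ((Nat.mul_dvd_mul_left p h).trans hr.symm.dvd).trans (card_subgroup_dvd_card C)
    rw [← sq] at h2
    have := (hp.out.pow_dvd_iff_le_factorization Nat.card_pos.ne').mp h2
    omega
  set E := (center C).index * r with hE
  have hEp : ¬ p ∣ E := by rw [hE, hp.out.dvd_mul]; exact not_or.mpr ⟨hidxC, hrp⟩
  have hFmul : ∀ a b : C, (a * b) ^ E = a ^ E * b ^ E := by
    intro a b
    have h1 : ∀ c : C, c ^ (center C).index = ((MonoidHom.transferCenterPow C c : center C) : C) := fun c =>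
      (MonoidHom.transferCenterPow_apply c).symm
    rw [hE, pow_mul, pow_mul, pow_mul, h1, h1, h1, map_mul, Subgroup.coe_mul]
    exact Commute.mul_pow (mem_center_iff.mp (MonoidHom.transferCenterPow C b).2 _) _
  let ZS' : Sylow p C := (ZS.isPGroup'.comap_of_injective C.subtype C.subtype_injective).toSylow (p := p) (by
    intro h
    exact hidxC (by
      have h1 := Zc.card_mul_index
      rw [Nat.card_congr (subgroupOfEquivOfLe hZC).toEquiv, hZcard] at h1
      have h2 : p * p ∣ Nat.card N := ((Nat.mul_dvd_mul_left p h).trans h1.dvd).trans (card_subgroup_dvd_card C)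
      rw [← sq] at h2
      have := (hp.out.pow_dvd_iff_le_factorization Nat.card_pos.ne').mp h2
      omega))
  have hFZ : ∀ c : C, c ^ E ∈ Zc := by
    intro c
    haveI : (ZS' : Subgroup C).Normal := ⟨fun a ha g => by
      have ha' := mem_center_iff.mp (hZcC ha) g
      rw [ha', mul_inv_cancel_right]; exact ha⟩
    have hpg : IsPGroup p (zpowers (c ^ E)) := by
      refine IsPGroup.of_card (n := (orderOf (c ^ E)).factorization p) ?_
      rw [Nat.card_zpowers]
      have h1 : orderOf (c ^ E) ∣ p := by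
        refine orderOf_dvd_of_pow_eq_one ?_
        rw [← pow_mul, hE, mul_assoc, mul_comm r p, ← hr, pow_mul', pow_card_eq_one', one_pow]
      rcases (Nat.dvd_prime hp.out).mp h1 with h | h <;> rw [h]
      · simp
      · rw [hp.out.factorization_self, pow_one]
    obtain ⟨Q, hQ⟩ := hpg.exists_le_sylow
    obtain ⟨g, rfl⟩ := MulAction.exists_smul_eq C ZS' Q
    rw [Sylow.smul_eq_of_normal] at hQ
    exact hQ (mem_zpowers _)
  -- `u, v` in `P` with commutator generating `Z`
  obtain ⟨u, v, huv, huv1⟩ : ∃ u v : ↥(P : Subgroup G), ((⁅u, v⁆ : ↥(P : Subgroup G)) : G) ∈ Z0 ∧ ⁅u, v⁆ ≠ 1 := by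
    have hP := mP.pGroup
    set K := N.subgroupOf (P : Subgroup G)
    have hKc : Nat.card K = p := by
      refine Eq.trans ?_ hZcard
      exact Nat.card_congr
        { toFun := fun u => ⟨⟨u.1.1, u.2⟩, u.1.2⟩
          invFun := fun u => ⟨⟨u.1.1, u.2⟩, u.1.2⟩
          left_inv := fun _ => rfl
          right_inv := fun _ => rfl }
    have hKidx : K.index = p ^ (n - 1) := by
      have h := K.card_mul_index
      rw [hKc, mP.card, show p ^ n = p * p ^ (n - 1) by rw [← pow_succ']; congr 1; omega] at h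
      exact Nat.eq_of_mul_eq_mul_left hp.out.pos h
    have hKL : K = L ↥(P : Subgroup G) (n - 2) := by
      rw [PGroup.normal_eq_lcs mP.three_le mP.card mP.cls (N := K) (r := n - 1) (by omega) hKidx,
        show n - 1 - 1 = n - 2 by omega]
    have hne : ⁅L ↥(P : Subgroup G) (n - 3), (⊤ : Subgroup ↥(P : Subgroup G))⁆ ≠ ⊥ := by
      intro h
      have h1 : L ↥(P : Subgroup G) (n - 2) = ⊥ := by
        rw [show n - 2 = (n - 3) + 1 by omega, L, Subgroup.lowerCentralSeries_succ]; exact h
      rw [← hKL] at h1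
      rw [h1, card_bot] at hKc
      exact hp.out.ne_one hKc.symm
    have : ¬ ∀ u ∈ L ↥(P : Subgroup G) (n - 3), ∀ v : ↥(P : Subgroup G), ⁅u, v⁆ = 1 := fun h => hne (by
      rw [eq_bot_iff, commutator_le]
      intro u hu v _
      rw [mem_bot]; exact h u hu v)
    push Not at this
    obtain ⟨u, hu, v, huv⟩ := this
    refine ⟨u, v, ?_, huv⟩
    have hm : ⁅u, v⁆ ∈ K := by
      rw [hKL, show n - 2 = (n - 3) + 1 by omega]
      exact commutator_mem_commutator hu (mem_top v)
    exact ⟨⟨_, hm⟩, (⁅u, v⁆ : ↥(P : Subgroup G)).2, rfl⟩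
  -- the homomorphism from `P`
  have hconj : ∀ (g : ↥(P : Subgroup G)), (⟨(g : G) * (t : G) * (g : G)⁻¹, hN.conj_mem _ t.2 _⟩ * t⁻¹ : N) ∈ C := by
    intro g
    rw [mem_centralizer_iff]
    intro z hz
    refine Subtype.ext ?_
    show (z : G) * ((g : G) * t * (g : G)⁻¹ * (t : G)⁻¹) = (g : G) * t * (g : G)⁻¹ * (t : G)⁻¹ * z
    have hz0 : (z : G) ∈ Z0 := ⟨z, hz, rfl⟩
    have hgz := hPcent g g.2 _ hz0
    have hti : t⁻¹ * z * t ∈ Z := by
      have := (mem_normalizer_iff.mp htn (t⁻¹ * z * t)).mpr (by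
        rw [show t * (t⁻¹ * z * t) * t⁻¹ = z by group]; exact hz)
      exact this
    have hz1 : ((t⁻¹ * z * t : N) : G) ∈ Z0 := ⟨_, hti, rfl⟩
    have hgz1 := hPcent g g.2 _ hz1
    simp only [Subgroup.coe_mul, Subgroup.coe_inv] at hgz1
    have hz2 : (g : G)⁻¹ * ((t : G)⁻¹ * z * t) = ((t : G)⁻¹ * z * t) * (g : G)⁻¹ := by
      calc (g : G)⁻¹ * ((t : G)⁻¹ * z * t) = (g : G)⁻¹ * (((t : G)⁻¹ * z * t) * g) * (g : G)⁻¹ := by group
        _ = (g : G)⁻¹ * ((g : G) * ((t : G)⁻¹ * z * t)) * (g : G)⁻¹ := by rw [hgz1]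
        _ = _ := by group
    calc (z : G) * ((g : G) * t * (g : G)⁻¹ * (t : G)⁻¹)
        = ((z : G) * g) * t * (g : G)⁻¹ * (t : G)⁻¹ := by group
      _ = ((g : G) * z) * t * (g : G)⁻¹ * (t : G)⁻¹ := by rw [hgz]
      _ = (g : G) * t * (((t : G)⁻¹ * z * t) * (g : G)⁻¹) * (t : G)⁻¹ := by group
      _ = (g : G) * t * ((g : G)⁻¹ * ((t : G)⁻¹ * z * t)) * (t : G)⁻¹ := by rw [hz2]
      _ = _ := by group
  let c : ↥(P : Subgroup G) → C := fun g => ⟨_, hconj g⟩
  let F : ↥(P : Subgroup G) → G := fun g => (((c g) ^ E : C) : N)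
  have hFcen : ∀ g, F g ∈ Z0 := fun g => ⟨_, hFZ (c g), rfl⟩
  have hFadd : ∀ g h, F (g * h) = F h * F g := by
    intro g h
    have hCconj : ∀ a : C, (⟨(g : G) * (a : N) * (g : G)⁻¹, hN.conj_mem _ (a : N).2 _⟩ : N) ∈ C := by
      intro a
      rw [mem_centralizer_iff]
      intro z hz
      refine Subtype.ext ?_
      show (z : G) * ((g : G) * (a : N) * (g : G)⁻¹) = (g : G) * (a : N) * (g : G)⁻¹ * z
      have hgz := hPcent g g.2 _ (⟨z, hz, rfl⟩ : (z : G) ∈ Z0)
      have haz : ((z : G) * (a : N) : G) = (a : N) * z := congrArg Subtype.val (mem_centralizer_iff.mp a.2 z hz)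
      have hgz' : (g : G)⁻¹ * z = (z : G) * (g : G)⁻¹ := by
        calc (g : G)⁻¹ * z = (g : G)⁻¹ * ((z : G) * g) * (g : G)⁻¹ := by group
          _ = (g : G)⁻¹ * ((g : G) * z) * (g : G)⁻¹ := by rw [hgz]
          _ = _ := by group
      calc (z : G) * ((g : G) * (a : N) * (g : G)⁻¹) = ((z : G) * g) * (a : N) * (g : G)⁻¹ := by group
        _ = ((g : G) * z) * (a : N) * (g : G)⁻¹ := by rw [hgz]
        _ = (g : G) * ((z : G) * (a : N)) * (g : G)⁻¹ := by group
        _ = (g : G) * ((a : N) * (z : G)) * (g : G)⁻¹ := by rw [haz]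
        _ = (g : G) * (a : N) * ((z : G) * (g : G)⁻¹) := by group
        _ = (g : G) * (a : N) * ((g : G)⁻¹ * z) := by rw [hgz']
        _ = _ := by group
    have hdec : c (g * h) = ⟨_, hCconj (c h)⟩ * c g := by
      refine Subtype.ext (Subtype.ext ?_)
      show ((g * h : ↥(P : Subgroup G)) : G) * t * ((g * h : ↥(P : Subgroup G)) : G)⁻¹ * (t : G)⁻¹ =
        (g : G) * ((h : G) * t * (h : G)⁻¹ * (t : G)⁻¹) * (g : G)⁻¹ * ((g : G) * t * (g : G)⁻¹ * (t : G)⁻¹)
      rw [Subgroup.coe_mul]
      group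
    show (((c (g * h)) ^ E : C) : N).val = _
    rw [hdec, hFmul]
    show (((⟨_, hCconj (c h)⟩ : C) ^ E : C) : N).val * F g = _
    congr 1
    have hfix := hPcent g g.2 _ (hFcen h)
    show _ = F h
    simp only [F] at hfix ⊢
    rw [Subgroup.coe_pow, Subgroup.coe_pow, Subgroup.coe_pow, Subgroup.coe_pow] at *
    show ((g : G) * ((c h : N) : G) * (g : G)⁻¹) ^ E = _
    rw [conj_pow, hfix, mul_inv_cancel_right]
  have hF1 : F ⁅u, v⁆ = 1 := by
    have hcomm : ∀ g h, F g * F h = F h * F g := fun g h => hPcent _ (hZ0P (hFcen g)) _ (hFcen h)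
    let Fh : ↥(P : Subgroup G) →* G := MonoidHom.mk' F fun g h => by rw [hFadd, hcomm]
    show Fh ⁅u, v⁆ = 1
    rw [map_commutatorElement, commutatorElement_eq_one_iff_mul_comm]
    exact hcomm u v
  -- but the commutator generates `Z`
  set z := ⁅u, v⁆
  obtain ⟨zz, hzz, hzz'⟩ := huv
  have hzt : ((c z : C) : N) = zz * t * zz⁻¹ * t⁻¹ := by
    refine Subtype.ext ?_
    show (z : G) * t * (z : G)⁻¹ * (t : G)⁻¹ = _
    simp only [Subgroup.coe_mul, Subgroup.coe_inv]
    rw [← hzz']
    rfl
  have hmem : ((c z : C) : N) ∈ Z := by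
    rw [hzt, show zz * t * zz⁻¹ * t⁻¹ = zz * (t * zz⁻¹ * t⁻¹) by group]
    exact mul_mem hzz ((mem_normalizer_iff.mp htn _).mp (inv_mem hzz))
  have hne : (c z : C) ≠ 1 := by
    intro h
    apply htc
    have h1 : zz * t * zz⁻¹ * t⁻¹ = 1 := by rw [← hzt, h]; rfl
    have h2 : zz * t = t * zz := by
      rw [mul_inv_eq_one, mul_inv_eq_iff_eq_mul] at h1
      exact h1
    have hgenZ : zpowers zz = Z := by
      refine Subgroup.eq_of_le_of_card_ge (zpowers_le.mpr hzz) ?_
      have hne1 : zz ≠ 1 := fun he => huv1 (Subtype.ext (by rw [← hzz', he]; rfl))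
      have hd : orderOf zz ∣ p := by
        rw [← hZcard, ← Subgroup.orderOf_mk zz hzz]; exact orderOf_dvd_natCard _
      rw [hZcard, Nat.card_zpowers, ((Nat.dvd_prime hp.out).mp hd).resolve_left
        fun h => hne1 (orderOf_eq_one_iff.mp h)]
    rw [mem_centralizer_iff]
    intro b hb
    rw [← hgenZ] at hb
    obtain ⟨k, rfl⟩ := Subgroup.mem_zpowers_iff.mp hb
    exact ((show Commute zz t from h2).zpow_left k).eq
  have hord : orderOf ((c z : C)) = p := by
    have hd : orderOf ((c z : C)) ∣ p := by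
      rw [← Subgroup.orderOf_coe, ← hZcard, ← Subgroup.orderOf_mk _ hmem]
      exact orderOf_dvd_natCard _
    exact ((Nat.dvd_prime hp.out).mp hd).resolve_left fun h => hne (orderOf_eq_one_iff.mp h)
  have hpow : (c z : C) ^ E = 1 := Subtype.ext (Subtype.ext hF1)
  exact hEp (hord ▸ orderOf_dvd_of_pow_eq_one hpow)

end Cfsg.Agent.MaxClassSylow
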